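import Cfsg.Agent.Lib.Blocks.FewSylow.SelfCent
import Cfsg.Agent.Lib.Blocks.FewSylow.Degrees
import Cfsg.Agent.Lib.Blocks.FewSylow.BigPrime
import Cfsg.Agent.Lib.ClassSum.Vanish

/-!
# The principal block of a simple group of order `p q^b g₀` with `g₀ < p - 1`

When no nontrivial character has degree `(p - 1)/2`, the prime `q` is two, the exceptional degree
is `g₀ = p - e` with `e` a power of two, and the Sylow subgroup of order `p` is self-centralizing.
-/

set_option autoImplicit false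
set_option linter.unusedSectionVars false

namespace Cfsg.Agent.Blocks.SmallCofactor

open scoped Cfsg.Agent.Blocks.D1 Classical ComplexConjugate commutatorElement
open CT Blocks

universe u

variable {p : ℕ} [hp : Fact p.Prime] {G : Type u} [Group G] [Fintype G] [IsSimpleGroup G]

theorem faithful_of_ne {χ : IrrCharacter G} (h : χ ≠ trivIrr G) {g : G}
    (hg : (χ : G → ℂ) g = (χ : G → ℂ) 1) : g = 1 := by
  have hc := isCharacter_of_isIrr χ.2
  have hn : (kerChar (χ : G → ℂ)).Normal := CT.SmallFaithful.kerChar_normal χ.2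
  rcases hn.eq_bot_or_eq_top with e | e
  · rw [← Subgroup.mem_bot, ← e, mem_kerChar_iff hc]; exact hg
  · exfalso
    have hall : ∀ x, (χ : G → ℂ) x = (χ : G → ℂ) 1 := fun x =>
      (mem_kerChar_iff hc).mp (e ▸ Subgroup.mem_top x)
    refine h (by_contra fun hne => ?_)
    have h0 := irr_inner_of_ne χ.2 (trivIrr G).2 (fun e => hne (Subtype.ext e))
    rw [classInner, Finset.sum_congr rfl (g := fun _ : G => (χ : G → ℂ) 1) fun x _ => by
        rw [hall x]; simp [trivIrr], Finset.sum_const, Finset.card_univ, nsmul_eq_mul,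
      ← Nat.card_eq_fintype_card, ← mul_assoc,
      inv_mul_cancel₀ (Nat.cast_ne_zero.mpr Nat.card_pos.ne'), one_mul] at h0
    exact irr_one_ne_zero χ.2 h0

theorem center_eq_bot (hnc : ¬ IsMulCommutative G) : Subgroup.center G = ⊥ := by
  rcases (inferInstance : (Subgroup.center G).Normal).eq_bot_or_eq_top with hz | hz
  · exact hz
  · exact absurd ⟨⟨fun a b => Subgroup.mem_center_iff.mp (hz ▸ Subgroup.mem_top b) a⟩⟩ hnc

theorem eq_zero_of_window {p a k : ℤ} (h1 : -p < a) (h2 : a < p) (h : a = p * k) : k = 0 := by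
  subst h
  rcases lt_trichotomy k 0 with h' | h' | h'
  · nlinarith
  · exact h'
  · nlinarith

/-- The data of the principal block. -/
structure Data (P : Sylow p G) (e x : ℕ) where
  X : Finset (IrrCharacter G)
  Y : Finset (IrrCharacter G)
  εX : IrrCharacter G → ℤ
  cent : ∀ g : G, (∀ y ∈ (P : Subgroup G), g * y = y * g) → g ∈ (P : Subgroup G)
  disj : Disjoint X Y
  triv_mem : trivIrr G ∈ X
  εX_triv : εX (trivIrr G) = 1
  card_X : X.card = e
  Y_ne : Y.Nonempty
  sign : ∀ χ ∈ X, εX χ = 1 ∨ εX χ = -1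
  deg_X : ∀ χ ∈ X, (deg (χ : G → ℂ) : ℤ) ≡ εX χ [ZMOD p]
  even_X : ∀ χ ∈ X, χ ≠ trivIrr G → 2 ∣ deg (χ : G → ℂ)
  val_X : ∀ χ ∈ X, ∀ z ∈ (P : Subgroup G), z ≠ 1 → (χ : G → ℂ) z = (εX χ : ℂ)
  deg_Y : ∀ ψ ∈ Y, deg (ψ : G → ℂ) = x
  agree : ∀ ψ ∈ Y, ∀ ψ' ∈ Y, ∀ g : G, ¬ p ∣ orderOf g → (ψ : G → ℂ) g = (ψ' : G → ℂ) g
  sum_Y : ∀ z ∈ (P : Subgroup G), z ≠ 1 → ∑ ψ ∈ Y, (ψ : G → ℂ) z = 1
  sum_X : ∑ χ ∈ X, εX χ * (deg (χ : G → ℂ) : ℤ) = -(x : ℤ)
  outside : ∀ χ : IrrCharacter G, χ ∉ X ∪ Y → ∀ z ∈ (P : Subgroup G), z ≠ 1 → (χ : G → ℂ) z = 0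
  two_le : 2 ≤ e
  add_eq : x + e = p
  two_x : p + 1 ≤ 2 * x
  odd : Odd x
  e_dvd : e ∣ p - 1
  e_two : ∃ c, e = 2 ^ c
  relIndex : (D1.cC P).relIndex (D1.cN P) = e

set_option maxHeartbeats 1000000 in
theorem exists_data (hnc : ¬ IsMulCommutative G) {q b g₀ : ℕ} (hq : q.Prime) (hpq : p ≠ q)
    (hcard : Nat.card G = p * q ^ b * g₀) (hg : g₀ < p - 1) (P : Sylow p G) (hP : Nat.card P = p)
    (hbig : ∀ χ : IrrCharacter G, χ ≠ trivIrr G → p + 1 ≤ 2 * deg (χ : G → ℂ)) :
    q = 2 ∧ ∃ e, Nonempty (Data P e g₀) := by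
  have hp2 := hp.out.two_le
  have hperf := FewSylow.Big.perfect hnc
  have hdG : p ∣ Nat.card G := by rw [hcard, mul_assoc]; exact dvd_mul_right _ _
  have hg0 : 0 < g₀ := Nat.pos_of_ne_zero fun h => by
    rw [h, mul_zero] at hcard; exact Nat.card_pos.ne' hcard
  have hnp : ¬ (P : Subgroup G).Normal := FewSylow.Big.not_normal hnc hdG P
  obtain ⟨T⟩ := D1.exists_setup P hP
  set e := (D1.cC P).relIndex (D1.cN P) with hedef
  obtain ⟨M, hM⟩ := exists_isPModular hp.out
  haveI := hM.2.1.isPrime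
  obtain ⟨X₀, Y₀, εX, ε, hdvd, hXY, hdis, hXc, hYc, hX, hε, hY, hag, hrel⟩ :=
    D1.exists_principal_structure (M := M) hM P hP hedef.symm
  have hCN : D1.cC P ≤ D1.cN P := Subgroup.centralizer_le_normalizer _
  -- the index of `P` and of its centralizer
  have hidxP : (P : Subgroup G).index = q ^ b * g₀ := by
    have h := (P : Subgroup G).card_mul_index
    rw [show Nat.card ↥(P : Subgroup G) = p from hP, hcard, mul_assoc] at h
    exact Nat.eq_of_mul_eq_mul_left hp.out.pos h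
  have hedvd : e ∣ q ^ b * g₀ := by
    rw [← hidxP]
    refine dvd_trans ?_ (Subgroup.index_dvd_of_le T.P_le_cC)
    exact ⟨_, (Subgroup.relIndex_mul_index hCN).symm⟩
  have he2 : 2 ≤ e := by
    by_contra hlt
    have he0 : e ≠ 0 := by
      intro h
      rw [h, zero_dvd_iff] at hedvd
      exact (Nat.mul_pos (pow_pos hq.pos b) hg0).ne' hedvd
    have h1 : D1.cN P ≤ D1.cC P := Subgroup.relIndex_eq_one.mp (show e = 1 by omega)
    haveI : IsCyclic P := isCyclic_of_prime_card hP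
    letI := IsCyclic.commGroup (α := P)
    set f := MonoidHom.transferSylow P h1
    have htop : f.ker = ⊤ := top_le_iff.mp (hperf ▸ Abelianization.commutator_subset_ker f)
    have h2 := MonoidHom.not_dvd_card_ker_transferSylow P h1
    rw [show (MonoidHom.transferSylow P h1).ker = ⊤ from htop, Subgroup.card_top] at h2
    exact h2 hdG
  have hele : e ≤ p - 1 := Nat.le_of_dvd (by omega) hdvd
  have hx1 : T.x ≠ 1 := fun h => hp.out.one_lt.ne (by rw [← T.hx, h, orderOf_one])
  have hxP : T.x ∈ (P : Subgroup G) := T.hxP ▸ Subgroup.mem_zpowers _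
  -- a degree prime to `p` and to `q` is at most `g₀`
  have hsmall : ∀ χ : IrrCharacter G, ¬ p ∣ deg (χ : G → ℂ) → ¬ q ∣ deg (χ : G → ℂ) →
      deg (χ : G → ℂ) ∣ g₀ := by
    intro χ h1 h2
    have h : deg (χ : G → ℂ) ∣ p * (q ^ b * g₀) := by
      rw [← mul_assoc, ← hcard]; exact charDegree_dvd_card χ
    have h' := ((hp.out.coprime_iff_not_dvd.mpr h1).symm).dvd_of_dvd_mul_left h
    exact (Nat.Coprime.pow_right b ((hq.coprime_iff_not_dvd.mpr h2).symm)).dvd_of_dvd_mul_left h'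
  set X : Finset (IrrCharacter G) := X₀.toFinset with hXdef
  set Y : Finset (IrrCharacter G) := Y₀.toFinset with hYdef
  have hdisj : Disjoint X Y := by rw [hXdef, hYdef, Set.disjoint_toFinset]; exact hdis
  have hXm : ∀ {χ}, χ ∈ X → χ ∈ X₀ := fun h => Set.mem_toFinset.mp h
  have hYm : ∀ {χ}, χ ∈ Y → χ ∈ Y₀ := fun h => Set.mem_toFinset.mp h
  have hreg1 : ¬ p ∣ orderOf (1 : G) := by rw [orderOf_one]; exact hp.out.not_dvd_one
  have hXv : ∀ χ ∈ X, ∀ z ∈ (P : Subgroup G), z ≠ 1 → (χ : G → ℂ) z = (εX χ : ℂ) := by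
    intro χ hχ z hz hz1
    have h := (hX χ (hXm hχ)).2.2 z hz hz1 1 (one_mem _) hreg1
    rwa [mul_one] at h
  have hXd : ∀ χ ∈ X, (deg (χ : G → ℂ) : ℤ) ≡ εX χ [ZMOD p] := fun χ hχ => (hX χ (hXm hχ)).2.1
  have hpz : Prime (p : ℤ) := Nat.prime_iff_prime_int.mp hp.out
  -- the nontrivial nonexceptional degrees are divisible by `q`
  have hXq : ∀ χ ∈ X, χ ≠ trivIrr G → q ∣ deg (χ : G → ℂ) := by
    intro χ hχ hne
    by_contra hnd
    have hd := hXd χ hχ
    have hnp' : ¬ p ∣ deg (χ : G → ℂ) := by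
      intro h
      have h' := (Int.modEq_zero_iff_dvd.mpr (Int.natCast_dvd_natCast.mpr h)).symm.trans hd
      have h2 : (p : ℤ) ∣ εX χ := Int.modEq_zero_iff_dvd.mp h'.symm
      exact hpz.not_isUnit (isUnit_of_dvd_unit h2 (by
        rcases (hX χ (hXm hχ)).1 with h | h <;> simp [h]))
    have hle := Nat.le_of_dvd hg0 (hsmall χ hnp' hnd)
    have hb := hbig χ hne
    obtain ⟨k, hk⟩ := Int.modEq_iff_dvd.mp hd
    rcases (hX χ (hXm hχ)).1 with h | h <;> rw [h] at hk
    · have : k = 0 := eq_zero_of_window (by omega) (by omega) hk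
      rw [this, mul_zero] at hk
      omega
    · have : k = -1 := by
        have h2 := eq_zero_of_window (p := (p : ℤ)) (a := -1 - (deg (χ : G → ℂ) : ℤ) + p) (k := k + 1)
          (by omega) (by omega) (by linear_combination hk)
        omega
      rw [this] at hk
      omega
  have hYne : Y.Nonempty := by
    rw [← Finset.card_pos, hYdef, ← Nat.card_eq_card_toFinset, hYc]
    exact Nat.div_pos hele (by omega)
  obtain ⟨ψ₀, hψ₀⟩ := hYne
  set x := deg (ψ₀ : G → ℂ) with hxdef
  have hx0 : 0 < x := deg_pos ψ₀.2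
  have hYx : ∀ ψ ∈ Y, deg (ψ : G → ℂ) = x := fun ψ hψ => by
    have h := hag ψ (hYm hψ) ψ₀ (hYm hψ₀) 1 hreg1
    rw [deg_eq (isCharacter_of_isIrr ψ.2), deg_eq (isCharacter_of_isIrr ψ₀.2)] at h
    exact_mod_cast h
  have hsumX : ∑ χ ∈ X, εX χ * (deg (χ : G → ℂ) : ℤ) = ε * x := by
    have h := hrel ψ₀ (hYm hψ₀) 1 hreg1
    rw [finsum_mem_eq_toFinset_sum, deg_eq (isCharacter_of_isIrr ψ₀.2), ← hxdef,
      Finset.sum_congr rfl fun χ _ => by rw [deg_eq (isCharacter_of_isIrr χ.2)]] at h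
    exact_mod_cast h.symm
  have htriv1 : deg ((trivIrr G : IrrCharacter G) : G → ℂ) = 1 := by simp [deg, trivIrr]
  have hqz : ¬ (q : ℤ) ∣ 1 := fun h => hq.one_lt.ne' (by exact_mod_cast Int.eq_one_of_dvd_one (by positivity) h)
  have htX : trivIrr G ∈ X := by
    have h : trivIrr G ∈ principalBlock M G := trivIrr_mem_principalBlock
    rw [hXY] at h
    rcases h with h | h
    · exact Set.mem_toFinset.mpr h
    exfalso
    have htY : trivIrr G ∈ Y := Set.mem_toFinset.mpr h
    have h1 : (q : ℤ) ∣ ε * x := by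
      rw [← hsumX]
      refine Finset.dvd_sum fun χ hχ => dvd_mul_of_dvd_right (Int.natCast_dvd_natCast.mpr
        (hXq χ hχ fun e => (Finset.disjoint_left.mp hdisj hχ) (e ▸ htY))) _
    rw [← hYx _ htY, htriv1, Nat.cast_one, mul_one] at h1
    rcases hε with h | h <;> rw [h] at h1
    · exact hqz h1
    · exact hqz (Int.dvd_neg.mp h1)
  have hs1 : εX (trivIrr G) = 1 := by
    have h : ((1 : ℤ) : ℂ) = (εX (trivIrr G) : ℂ) := by
      rw [← hXv _ htX T.x hxP hx1]; simp [trivIrr]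
    exact_mod_cast h.symm
  have hqsum : (q : ℤ) ∣ ε * x - 1 := by
    rw [← hsumX, ← Finset.add_sum_erase _ _ htX, hs1, htriv1, Nat.cast_one, mul_one,
      add_sub_cancel_left]
    refine Finset.dvd_sum fun χ hχ => dvd_mul_of_dvd_right (Int.natCast_dvd_natCast.mpr
      (hXq χ (Finset.mem_of_mem_erase hχ) (Finset.ne_of_mem_erase hχ))) _
  have hψne : ψ₀ ≠ trivIrr G := fun h => Finset.disjoint_left.mp hdisj htX (h ▸ hψ₀)
  have hxmod : (x : ℤ) ≡ ε * (e : ℤ) [ZMOD p] := hY ψ₀ (hYm hψ₀)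
  have hpx : ¬ p ∣ x := by
    intro h
    have h' := (Int.modEq_zero_iff_dvd.mpr (Int.natCast_dvd_natCast.mpr h)).symm.trans hxmod
    have h2 : (p : ℤ) ∣ ε * e := Int.modEq_zero_iff_dvd.mp h'.symm
    have h3 : (p : ℤ) ∣ (e : ℤ) := by
      rcases hε with h | h <;> rw [h] at h2
      · simpa using h2
      · simpa using h2
    have := Nat.le_of_dvd (by omega) (Int.natCast_dvd_natCast.mp h3)
    omega
  have hqx : ¬ q ∣ x := by
    intro h
    have h1 : (q : ℤ) ∣ ε * x := dvd_mul_of_dvd_right (Int.natCast_dvd_natCast.mpr h) _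
    exact hqz (by simpa using dvd_sub h1 hqsum)
  have hxg : x ∣ g₀ := hsmall ψ₀ hpx hqx
  have hxle := Nat.le_of_dvd hg0 hxg
  have hxb := hbig ψ₀ hψne
  rw [← hxdef] at hxb
  have hgx : g₀ = x := by
    obtain ⟨c, hc⟩ := hxg
    rcases Nat.lt_trichotomy c 1 with h | h | h
    · rw [show c = 0 by omega, mul_zero] at hc; omega
    · rw [h, mul_one] at hc; exact hc
    · have := Nat.mul_le_mul_left x h; omega
  obtain ⟨k, hk⟩ := Int.modEq_iff_dvd.mp hxmod
  have hεm : ε = -1 := by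
    rcases hε with h | h
    · exfalso
      rw [h] at hk
      have hk0 : k = 0 := eq_zero_of_window (by omega) (by omega) hk
      rw [hk0, mul_zero] at hk
      obtain ⟨d, hd⟩ := hdvd
      rcases Nat.lt_trichotomy d 1 with h' | h' | h'
      · rw [show d = 0 by omega, mul_zero] at hd; omega
      · rw [h', mul_one] at hd; omega
      · have := Nat.mul_le_mul_left e h'; omega
    · exact h
  have hxe : x + e = p := by
    rw [hεm] at hk
    have hk1 : k = -1 := by
      have h2 := eq_zero_of_window (p := (p : ℤ)) (a := -1 * (e : ℤ) - x + p) (k := k + 1)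
        (by omega) (by omega) (by linear_combination hk)
      omega
    rw [hk1] at hk
    omega
  -- `e` is a power of `q`, and `q = 2`
  have hcop : Nat.Coprime e x := by
    rw [Nat.coprime_iff_gcd_eq_one]
    rcases (Nat.dvd_prime hp.out).mp (show Nat.gcd e x ∣ p from
      hxe ▸ dvd_add (Nat.gcd_dvd_right e x) (Nat.gcd_dvd_left e x)) with h | h
    · exact h
    · exfalso
      have := Nat.le_of_dvd (by omega) (h ▸ Nat.gcd_dvd_left e x)
      omega
  obtain ⟨c, -, hec⟩ := (Nat.dvd_prime_pow hq).mp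
    (hcop.dvd_of_dvd_mul_right (hgx ▸ hedvd : e ∣ q ^ b * x))
  have hqe : q ∣ e := hec ▸ dvd_pow_self q fun h => by rw [hec, h, pow_zero] at he2; omega
  have hq2 : q = 2 := by
    refine (Nat.prime_dvd_prime_iff_eq hq Nat.prime_two).mp (Int.natCast_dvd_natCast.mp ?_)
    have h1 : (q : ℤ) ∣ (p : ℤ) - 1 := by
      rw [← Nat.cast_one, ← Nat.cast_sub (by omega)]
      exact Int.natCast_dvd_natCast.mpr (hqe.trans hdvd)
    have h2 : (q : ℤ) ∣ (e : ℤ) := Int.natCast_dvd_natCast.mpr hqe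
    rw [hεm] at hqsum
    obtain ⟨u, hu⟩ := h1
    obtain ⟨w, hw⟩ := h2
    obtain ⟨z, hz⟩ := hqsum
    have hxe' : (x : ℤ) + e = p := by exact_mod_cast hxe
    exact ⟨-z - u + w, by push_cast; linear_combination -hxe' - hz - hu + hw⟩
  subst hq2
  refine ⟨rfl, e, ?_⟩
  have hodd : Odd x := Nat.not_even_iff_odd.mp fun h => hqx (even_iff_two_dvd.mp h)
  -- the sums of the exceptional values
  have hYsum' : ∀ z ∈ (P : Subgroup G), z ≠ 1 → ∀ y ∈ D1.cC P, ¬ p ∣ orderOf y →
      ∑ ψ ∈ Y, (ψ : G → ℂ) (z * y) = 1 := by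
    intro z hz hz1 y hy hyr
    have hzo : orderOf z = p := by
      have h1 := Subgroup.orderOf_dvd_natCard (P : Subgroup G) hz
      rw [show Nat.card ↥(P : Subgroup G) = p from hP] at h1
      exact ((Nat.dvd_prime hp.out).mp h1).resolve_left fun h => hz1 (orderOf_eq_one_iff.mp h)
    have hcm : Commute z y := Subgroup.mem_centralizer_iff.mp hy z hz
    have hd : p ∣ orderOf (z * y) := by
      rw [hcm.orderOf_mul_eq_mul_orderOf_of_coprime
        (by rw [hzo]; exact hp.out.coprime_iff_not_dvd.mpr hyr), hzo]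
      exact dvd_mul_right _ _
    have h := weak_orthogonality hM
      (blockCoeff_mem_loc (M := M) (isPBlock_principalBlock (G := G))) hreg1 (h := z * y) hd
    rw [hXY, finsum_mem_eq_toFinset_sum, Set.toFinset_union, Finset.sum_union hdisj] at h
    have h' := congrArg conj h
    rw [map_zero, map_add, map_sum, map_sum,
      Finset.sum_congr (s₁ := X) rfl (g := fun χ : IrrCharacter G => ((εX χ * (deg (χ : G → ℂ) : ℤ) : ℤ) : ℂ))
        fun χ hχ => by
          rw [map_mul, Complex.conj_conj, deg_eq (isCharacter_of_isIrr χ.2), map_natCast,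
            (hX χ (hXm hχ)).2.2 z hz hz1 y hy hyr]
          push_cast; ring,
      Finset.sum_congr (s₁ := Y) rfl (g := fun ψ : IrrCharacter G => (x : ℂ) * (ψ : G → ℂ) (z * y))
        fun ψ hψ => by
          rw [map_mul, Complex.conj_conj, deg_eq (isCharacter_of_isIrr ψ.2), map_natCast,
            hYx ψ hψ],
      ← Int.cast_sum, hsumX, ← Finset.mul_sum, hεm] at h'
    refine mul_left_cancel₀ (show (x : ℂ) ≠ 0 from Nat.cast_ne_zero.mpr hx0.ne') ?_
    push_cast at h'
    linear_combination h'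
  have hYsum : ∀ z ∈ (P : Subgroup G), z ≠ 1 → ∑ ψ ∈ Y, (ψ : G → ℂ) z = 1 := fun z hz hz1 => by
    simpa using hYsum' z hz hz1 1 (one_mem _) hreg1
  -- the centralizer of `P`
  have hcent : ∀ g : G, (∀ y ∈ (P : Subgroup G), g * y = y * g) → g ∈ (P : Subgroup G) := by
    intro g hg'
    by_contra hgP
    have hgC : g ∈ D1.cC P := Subgroup.mem_centralizer_iff.mpr fun y hy => (hg' y hy).symm
    obtain ⟨y, hy, hly⟩ := T.exists_decomp ⟨g, hgC⟩
    have hy1 : (y : G) ≠ 1 := by
      intro h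
      rw [show y = 1 from Subtype.ext h, mul_one] at hy
      exact hgP (T.mem_P_iff.mpr ⟨_, hy⟩)
    have hyr : ¬ p ∣ orderOf (y : G) := (T.ell_eq_zero_iff y).mp hly
    set H := Subgroup.zpowers (y : G) with hH
    have hHreg : ∀ h : H, ¬ p ∣ orderOf (h : G) := fun h hd => hyr
      (hd.trans (Subgroup.orderOf_coe h ▸ (orderOf_dvd_natCard h).trans (by rw [hH, Nat.card_zpowers])))
    have hHC : ∀ h : H, (h : G) ∈ D1.cC P := fun h => (Subgroup.zpowers_le.mpr y.2) h.2
    let φ : ↥(P : Subgroup G) × H →* G := MonoidHom.noncommCoprod (P : Subgroup G).subtype H.subtype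
      fun a b => Subgroup.mem_centralizer_iff.mp (hHC b) _ a.2
    set m := mult (fun h : H => (ψ₀ : G → ℂ) h) (fun _ => 1)
    have hψH : ∀ ψ ∈ Y, ∑ h : H, (ψ : G → ℂ) h = (Nat.card H : ℂ) * m := by
      intro ψ hψ
      rw [Finset.sum_congr rfl fun (h : H) _ => hag ψ (hYm hψ) ψ₀ (hYm hψ₀) h (hHreg h),
        ← mult_spec (isCharacter_restrict H (isCharacter_of_isIrr ψ₀.2)) (isCharacter_one (G := H)),
        classInner, ← mul_assoc, mul_inv_cancel₀ (Nat.cast_ne_zero.mpr Nat.card_pos.ne'), one_mul]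
      simp
    set K := ∑ ψ ∈ Y, mult (fun w : ↥(P : Subgroup G) × H => (ψ : G → ℂ) (φ w)) (fun _ => 1)
    have hK : (p : ℂ) * Nat.card H * K = (Y.card : ℂ) * (Nat.card H * m) + ((p : ℂ) - 1) * Nat.card H := by
      rw [Nat.cast_sum, Finset.mul_sum, Finset.sum_congr rfl (g := fun ψ : IrrCharacter G =>
          ∑ a : (P : Subgroup G), ∑ h : H, (ψ : G → ℂ) ((a : G) * h)) fun ψ _ => by
        rw [← mult_spec (isCharacter_comp φ (isCharacter_of_isIrr ψ.2))
          (isCharacter_one (G := ↥(P : Subgroup G) × H)), classInner, Nat.card_prod,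
          show Nat.card ↥(P : Subgroup G) = p from hP, ← mul_assoc, Nat.cast_mul,
          mul_inv_cancel₀ (mul_ne_zero (Nat.cast_ne_zero.mpr hp.out.ne_zero)
            (Nat.cast_ne_zero.mpr Nat.card_pos.ne')), one_mul, Fintype.sum_prod_type]
        refine Finset.sum_congr rfl fun a _ => Finset.sum_congr rfl fun h _ => ?_
        rw [map_one, mul_one]
        rfl,
        Finset.sum_comm, ← Finset.add_sum_erase _ _ (Finset.mem_univ (1 : (P : Subgroup G))),
        Finset.sum_congr (s₁ := Finset.univ.erase (1 : (P : Subgroup G))) rfl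
          (g := fun _ => (Nat.card H : ℂ)) fun a ha => ?_,
        Finset.sum_congr (s₁ := Y) rfl (g := fun _ => (Nat.card H : ℂ) * m) fun ψ hψ => ?_,
        Finset.sum_const, Finset.sum_const, Finset.card_erase_of_mem (Finset.mem_univ _),
        Finset.card_univ, ← Nat.card_eq_fintype_card, show Nat.card ↥(P : Subgroup G) = p from hP,
        nsmul_eq_mul, nsmul_eq_mul, Nat.cast_sub (by omega), Nat.cast_one]
      · rw [Finset.sum_congr rfl fun (h : H) _ => by rw [OneMemClass.coe_one, one_mul]]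
        exact hψH ψ hψ
      · have ha1 : (a : G) ≠ 1 := fun h => (Finset.mem_erase.mp ha).1 (Subtype.ext h)
        rw [Finset.sum_comm, Finset.sum_congr rfl fun (h : H) _ =>
          hYsum' a a.2 ha1 h (hHC h) (hHreg h)]
        simp [Nat.card_eq_fintype_card]
    have hK' : (p : ℤ) * K = Y.card * (m : ℤ) + ((p : ℤ) - 1) := by
      have h : (p : ℂ) * K = Y.card * (m : ℂ) + ((p : ℂ) - 1) :=
        mul_right_cancel₀ (Nat.cast_ne_zero.mpr (Nat.card_pos (α := H)).ne')
          (by linear_combination hK)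
      exact_mod_cast h
    have hte : (Y.card : ℤ) * e = (p : ℤ) - 1 := by
      have h : Y.card * e = p - 1 := by
        rw [hYdef, ← Nat.card_eq_card_toFinset, hYc, Nat.div_mul_cancel hdvd]
      rw [← Nat.cast_one, ← Nat.cast_sub (by omega), ← Nat.cast_mul, h]
    -- the multiplicity of the trivial character on `H`
    have hbound : ∀ h : H, ((ψ₀ : G → ℂ) h).re ≤ (x : ℝ) := fun h =>
      (Complex.re_le_norm _).trans ((norm_isCharacter_le (isCharacter_of_isIrr ψ₀.2) _).trans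
        (le_of_eq (by rw [deg_eq (isCharacter_of_isIrr ψ₀.2), Complex.natCast_re])))
    have hsumre : ∑ h : H, ((ψ₀ : G → ℂ) h).re = (Nat.card H : ℝ) * m := by
      rw [← Complex.re_sum, hψH ψ₀ hψ₀]
      simp
    have hmx : m ≤ x := by
      have h := Finset.sum_le_sum (s := Finset.univ) fun h (_ : h ∈ Finset.univ) => hbound h
      rw [hsumre, Finset.sum_const, Finset.card_univ, ← Nat.card_eq_fintype_card, nsmul_eq_mul] at h
      exact Nat.cast_le.mp (le_of_mul_le_mul_left h (Nat.cast_pos.mpr Nat.card_pos))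
    have hpme : (p : ℤ) ∣ (m : ℤ) + e := by
      refine ⟨(m : ℤ) + e - K * e, ?_⟩
      linear_combination e * hK' + (m : ℤ) * hte
    have hmeq : m = x := by
      obtain ⟨w, hw⟩ := Int.natCast_dvd_natCast.mp (by exact_mod_cast hpme : (p : ℤ) ∣ ((m + e : ℕ) : ℤ))
      rcases Nat.lt_trichotomy w 1 with h | h | h
      · rw [show w = 0 by omega, mul_zero] at hw; omega
      · rw [h, mul_one] at hw; omega
      · have := Nat.mul_le_mul_left p h; omega
    have hre : ((ψ₀ : G → ℂ) (y : G)).re = x := by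
      have h0 := (Finset.sum_eq_zero_iff_of_nonneg (fun h _ => sub_nonneg.mpr (hbound h))).mp
        (show ∑ h : H, ((x : ℝ) - ((ψ₀ : G → ℂ) h).re) = 0 by
          rw [Finset.sum_sub_distrib, hsumre, hmeq, Finset.sum_const, Finset.card_univ,
            ← Nat.card_eq_fintype_card, nsmul_eq_mul, sub_self])
        ⟨(y : G), Subgroup.mem_zpowers _⟩ (Finset.mem_univ _)
      linarith
    refine hy1 (faithful_of_ne hψne ?_)
    have h2 := norm_isCharacter_le (isCharacter_of_isIrr ψ₀.2) (y : G)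
    rw [deg_eq (isCharacter_of_isIrr ψ₀.2), ← hxdef, Complex.natCast_re, ← hre] at h2
    have h3 : ((ψ₀ : G → ℂ) (y : G)).im = 0 :=
      Complex.abs_re_eq_norm.mp (le_antisymm (Complex.abs_re_le_norm _) (h2.trans (le_abs_self _)))
    rw [deg_eq (isCharacter_of_isIrr ψ₀.2), ← hxdef]
    exact Complex.ext (by rw [hre, Complex.natCast_re]) (by rw [h3, Complex.natCast_im])
  have hC : D1.cC P = (P : Subgroup G) :=
    le_antisymm (fun g hg => hcent g fun y hy => (Subgroup.mem_centralizer_iff.mp hg y hy).symm)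
      T.P_le_cC
  -- the other characters vanish on `P`
  have hmem : ∀ χ : IrrCharacter G, ¬ p ∣ deg (χ : G → ℂ) → χ ∈ X ∪ Y := by
    intro χ hχ
    obtain ⟨θ, hθ, hblk⟩ := D1.exists_blk_eq T hM (χ := χ) hχ
    have hθ1 : θ = trivIrr (D1.cC P) := by
      have hc : ∀ a b : D1.cC P, a * b = b * a := fun a b => Subtype.ext
        (Subgroup.mem_centralizer_iff.mp b.2 _ (hC ▸ a.2))
      refine Subtype.ext (funext fun c => ?_)
      rw [hθ c (hC ▸ c.2), irr_degree_one_of_comm hc θ.2]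
      rfl
    have hdef : InducedBlockDefined M (D1.cC P) (principalBlock M (D1.cC P)) :=
      exists_inducedBlock hM P.2 T.P_le_cC le_rfl (Subgroup.centralizer_le_normalizer _)
        isPBlock_principalBlock
    have hind := (third_main hM hdef).mpr rfl
    obtain ⟨hb, -⟩ := D1.blk_spec T hM θ
    have he' : blockOf M (θ : D1.cC P → ℂ) = principalBlock M (D1.cC P) := by
      rw [hθ1]
      exact block_eq_of_mem (isPBlock_blockOf _) isPBlock_principalBlock (self_mem_blockOf _)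
        trivIrr_mem_principalBlock
    rw [he'] at hb
    have h := self_mem_blockOf (M := M) χ
    rw [← hblk, inducedBlock_unique hb hind, hXY] at h
    simpa [hXdef, hYdef] using h
  have hout : ∀ χ : IrrCharacter G, χ ∉ X ∪ Y → ∀ z ∈ (P : Subgroup G), z ≠ 1 →
      (χ : G → ℂ) z = 0 := by
    intro χ hχ z hz hz1
    have hd : p ∣ deg (χ : G → ℂ) := by_contra fun h => hχ (hmem χ h)
    refine ClassSum.char_eq_zero_of_defZero hp.out χ (by rw [D1.factorization_card hP, pow_one]; exact hd) ?_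
    have h1 := Subgroup.orderOf_dvd_natCard (P : Subgroup G) hz
    rw [show Nat.card ↥(P : Subgroup G) = p from hP] at h1
    rcases (Nat.dvd_prime hp.out).mp h1 with h2 | h2
    · exact absurd (orderOf_eq_one_iff.mp h2) hz1
    · exact dvd_of_eq h2.symm
  exact ⟨{
    X := X, Y := Y, εX := εX, cent := hcent, disj := hdisj, triv_mem := htX, εX_triv := hs1
    card_X := by rw [hXdef, ← Nat.card_eq_card_toFinset]; exact hXc
    Y_ne := ⟨ψ₀, hψ₀⟩
    sign := fun χ hχ => (hX χ (hXm hχ)).1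
    deg_X := hXd
    even_X := hXq
    val_X := hXv
    deg_Y := fun ψ hψ => (hYx ψ hψ).trans hgx.symm
    agree := fun ψ h ψ' h' => hag ψ (hYm h) ψ' (hYm h')
    sum_Y := hYsum
    sum_X := by rw [hsumX, hεm, hgx]; ring
    outside := hout
    two_le := he2
    add_eq := hgx ▸ hxe
    two_x := hgx ▸ hxb
    odd := hgx ▸ hodd
    e_dvd := hdvd
    e_two := ⟨c, hec⟩
    relIndex := rfl }⟩

end Cfsg.Agent.Blocks.SmallCofactor
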