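import Cfsg.Agent.Lib.Blocks.SmallCofactor.TwoBlock
import Cfsg.Agent.Lib.Blocks.SmallDim.Main
import Cfsg.Agent.Lib.Blocks.FewSylow.Final

/-!
# Simple groups of order `p q^b g₀` with `g₀ < p - 1`
-/

set_option autoImplicit false
set_option linter.unusedSectionVars false

namespace Cfsg.Agent.Blocks.SmallCofactor

open scoped Cfsg.Agent.Blocks.D1 Classical
open CT Blocks

universe u

variable {p : ℕ} [hp : Fact p.Prime] {G : Type u} [Group G] [Fintype G] [IsSimpleGroup G]

/-- The classification, recording the order and that `q = 2`. -/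
theorem classify (hnc : ¬ IsMulCommutative G) {q b g₀ : ℕ} (hq : q.Prime) (hpq : p ≠ q)
    (hcard : Nat.card G = p * q ^ b * g₀) (hg : g₀ < p - 1) :
    q = 2 ∧ ((∃ (m : ℕ) (F : Type) (_ : Field F) (_ : Fintype F), Fintype.card F = p ∧
        (p = 2 ^ m + 1 ∨ p = 2 ^ m - 1) ∧ 5 ≤ p ∧
        Nonempty (G ≃* Matrix.ProjectiveSpecialLinearGroup (Fin 2) F)) ∨
      (∃ (m : ℕ) (F : Type) (_ : Field F) (_ : Fintype F), Fintype.card F = 2 ^ m ∧ p = 2 ^ m + 1 ∧
        3 < p ∧ Nonempty (G ≃* Matrix.ProjectiveSpecialLinearGroup (Fin 2) F))) := by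
  have hp2 := hp.out.two_le
  have hg0 : 0 < g₀ := Nat.pos_of_ne_zero fun h => by
    rw [h, mul_zero] at hcard; exact Nat.card_pos.ne' hcard
  have hdG : p ∣ Nat.card G := by rw [hcard, mul_assoc]; exact dvd_mul_right _ _
  have hsq : ¬ p ^ 2 ∣ Nat.card G := by
    intro h
    rw [hcard, mul_assoc, pow_two] at h
    have h' := Nat.dvd_of_mul_dvd_mul_left hp.out.pos h
    rcases hp.out.dvd_mul.mp h' with h1 | h1
    · exact hpq ((Nat.prime_dvd_prime_iff_eq hp.out hq).mp (hp.out.dvd_of_dvd_pow h1))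
    · have := Nat.le_of_dvd hg0 h1
      omega
  obtain ⟨P⟩ : Nonempty (Sylow p G) := inferInstance
  have hfac : (Nat.card G).factorization p = 1 := by
    have h2 := hp.out.factorization_pos_of_dvd Nat.card_pos.ne' hdG
    have h3 : ¬ 2 ≤ (Nat.card G).factorization p := fun h =>
      hsq ((hp.out.pow_dvd_iff_le_factorization Nat.card_pos.ne').mpr h)
    omega
  have hP : Nat.card P = p := by rw [P.card_eq_multiplicity, hfac, pow_one]
  have hperf := FewSylow.Big.perfect hnc
  have hnn : ∀ N : Subgroup G, N.Normal → Nat.card N ≠ p := by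
    intro N hN hc
    rcases hN.eq_bot_or_eq_top with h | h
    · rw [h, Subgroup.card_bot] at hc; exact hp.out.one_lt.ne hc
    · rw [h, Subgroup.card_top] at hc
      haveI : IsCyclic G := isCyclic_of_prime_card hc
      exact hnc ⟨⟨fun a b => (IsCyclic.commGroup (α := G)).mul_comm a b⟩⟩
  have hodd : Odd p := by
    refine hp.out.odd_of_ne_two fun h => ?_
    omega
  by_cases hsmall : ∃ χ : IrrCharacter G, χ ≠ trivIrr G ∧ 2 * deg (χ : G → ℂ) + 1 = p
  · obtain ⟨χ, hne, hd⟩ := hsmall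
    obtain ⟨i⟩ := SmallDim.psl_of_half hdG hsq hnn (isCharacter_of_isIrr χ.2)
      (fun g hg => faithful_of_ne hne hg) hd
    haveI : NeZero p := ⟨hp.out.ne_zero⟩
    have j : G ≃* Matrix.ProjectiveSpecialLinearGroup (Fin 2) (ZMod p) :=
      (QuotientGroup.quotientBot.symm.trans
        (QuotientGroup.quotientMulEquivOfEq (center_eq_bot hnc).symm)).trans i
    have h5 : 5 ≤ p := by
      have h4 : p ≠ 4 := fun h => absurd hp.out (by rw [h]; norm_num)
      have h3 : p ≠ 3 := by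
        intro h3
        have hd1 : (χ : G → ℂ) 1 = 1 := by
          rw [deg_eq (isCharacter_of_isIrr χ.2), show deg (χ : G → ℂ) = 1 by omega, Nat.cast_one]
        refine hne (Subtype.ext (funext fun g => ?_))
        exact (linear_trivial_on_commutator (isCharacter_of_isIrr χ.2) hd1 g
          (hperf ▸ Subgroup.mem_top g)).trans hd1
      omega
    have hc := RecognizePSL.natCard_PSL2 (F := ZMod p) (by rw [ZMod.card]; exact Nat.odd_iff.mp hodd)
    rw [ZMod.card, ← Nat.card_congr j.toEquiv, hcard] at hc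
    obtain ⟨hq2, m, hm⟩ := psl_shape hp.out h5 hq hg (b := b) (Nat.eq_of_mul_eq_mul_left hp.out.pos
      (by rw [← mul_assoc p (p - 1), ← hc]; ring))
    exact ⟨hq2, Or.inl ⟨m, ZMod p, inferInstance, inferInstance, ZMod.card p, hm, h5, ⟨j⟩⟩⟩
  push Not at hsmall
  have hbig : ∀ χ : IrrCharacter G, χ ≠ trivIrr G → p + 1 ≤ 2 * deg (χ : G → ℂ) := by
    intro χ hne
    by_contra hlt
    obtain ⟨x, hx⟩ := exists_prime_orderOf_dvd_card' (G := G) p hdG
    have h := hsmall χ hne
    obtain ⟨k, hk⟩ := hodd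
    haveI := CT.SmallFaithful.normal_zpowers (p := p) (Nat.card G) G le_rfl hsq (χ : G → ℂ)
      (isCharacter_of_isIrr χ.2) (fun g hg => faithful_of_ne hne hg) (by omega) x hx
    exact hnn _ this (by rw [Nat.card_zpowers, hx])
  obtain ⟨hq2, e, ⟨D⟩⟩ := exists_data hnc hq hpq hcard hg P hP hbig
  subst hq2
  refine ⟨rfl, ?_⟩
  have h2b := two_pow_eq D hP hcard hnc
  have he2 := D.two_le
  have hadd := D.add_eq
  set nS := Nat.card (Sylow p G) with hnS
  have hn : nS * e = 2 ^ b * g₀ := by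
    rw [← idx_P D hP hcard, ← cC_eq' D hP, ← D.relIndex, hnS, P.card_eq_index_normalizer, mul_comm]
    exact Subgroup.relIndex_mul_index (Subgroup.centralizer_le_normalizer _)
  have hn1 : nS % p = 1 := by
    rw [hnS, card_sylow_modEq_one p G, Nat.mod_eq_of_lt hp.out.one_lt]
  obtain ⟨n, hnn'⟩ : ∃ n, nS = 1 + n * p := ⟨nS / p, by
    have := Nat.div_add_mod nS p
    rw [mul_comm (nS / p)]; omega⟩
  have hfew : 2 * n < p + 3 := by
    by_contra hge
    push Not at hge
    rw [hnn', h2b] at hn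
    have hpz : ((p - 1 : ℕ) : ℤ) = (p : ℤ) - 1 := by rw [Nat.cast_sub (by omega), Nat.cast_one]
    have hz := congrArg (Nat.cast : ℕ → ℤ) hn
    push_cast [hpz] at hz
    have h1 : (p : ℤ) + 3 ≤ 2 * n := by exact_mod_cast hge
    have h2 : (2 : ℤ) ≤ e := by exact_mod_cast he2
    have h3 : (g₀ : ℤ) + e = p := by exact_mod_cast hadd
    have h4 : (2 : ℤ) ≤ p := by exact_mod_cast hp2
    nlinarith [mul_le_mul_of_nonneg_left h2 (by positivity : (0 : ℤ) ≤ 1 + (n : ℤ) * p)]
  rcases (FewSylow.Setting.classify_psl (P := P) (n := n)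
      ⟨hP, D.cent, hperf, hnn', FewSylow.nform_of_few hfew⟩) with
    ⟨F, i1, i2, hF, h3, hj⟩ | ⟨m, F, i1, i2, hF, hm, h3, hj⟩
  · obtain ⟨M, -, hpM, -⟩ := exists_two_pow D hP hcard
    have h4 : p ≠ 4 := fun h => absurd hp.out (by rw [h]; norm_num)
    exact Or.inl ⟨M, F, i1, i2, hF, Or.inl hpM, by omega, hj⟩
  · exact Or.inr ⟨m, F, i1, i2, hF, hm, h3, hj⟩

end Cfsg.Agent.Blocks.SmallCofactor
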