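import Mathlib

/-!
# Arithmetic for simple groups of order `p q^b g₀` with `g₀ < p - 1`
-/

set_option autoImplicit false

namespace Cfsg.Agent.Blocks.SmallCofactor

/-- The order of `PSL(2, p)` has this shape only when `p ± 1` is a power of two. -/
theorem psl_shape {p q b g : ℕ} (hp : p.Prime) (h5 : 5 ≤ p) (hq : q.Prime) (hg : g < p - 1)
    (h : (p - 1) * (p + 1) = 2 * (q ^ b * g)) :
    q = 2 ∧ ∃ m, p = 2 ^ m + 1 ∨ p = 2 ^ m - 1 := by
  have hg0 : 0 < g := Nat.pos_of_ne_zero fun h0 => by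
    rw [h0, mul_zero, mul_zero] at h
    rcases mul_eq_zero.mp h with h | h <;> omega
  obtain ⟨k, hk⟩ := hp.odd_of_ne_two (by omega)
  have hq2 : q = 2 := by
    by_contra hne
    have hqo : Odd (q ^ b) := (hq.odd_of_ne_two hne).pow
    have hnd : ¬ (q ∣ p - 1 ∧ q ∣ p + 1) := by
      rintro ⟨h1, h2⟩
      have := Nat.le_of_dvd two_pos (show q ∣ 2 by
        have h3 := Nat.dvd_sub h2 h1
        rwa [show p + 1 - (p - 1) = 2 by omega] at h3)
      have := hq.two_le
      omega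
    by_cases h1 : q ∣ p - 1
    · have h2 : ¬ q ∣ p + 1 := fun h2 => hnd ⟨h1, h2⟩
      have hd : p + 1 ∣ 2 * g := by
        refine (Nat.Coprime.pow_right b ((hq.coprime_iff_not_dvd.mpr h2).symm)).dvd_of_dvd_mul_left ?_
        exact ⟨p - 1, by rw [mul_comm (p + 1), h]; ring⟩
      obtain ⟨c, hc⟩ := hd
      rcases Nat.lt_trichotomy c 1 with h' | h' | h'
      · rw [show c = 0 by omega] at hc; omega
      · rw [h', mul_one] at hc
        have e : (p - 1) * (2 * g) = q ^ b * (2 * g) := by rw [hc, h, ← hc]; ring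
        have e' := Nat.eq_of_mul_eq_mul_right (by omega) e
        rw [← e'] at hqo
        exact absurd hqo (Nat.not_odd_iff_even.mpr ⟨k, by omega⟩)
      · have := Nat.mul_le_mul_left (p + 1) h'
        omega
    · have hd : p - 1 ∣ 2 * g := by
        refine (Nat.Coprime.pow_right b ((hq.coprime_iff_not_dvd.mpr h1).symm)).dvd_of_dvd_mul_left ?_
        exact ⟨p + 1, by rw [h]; ring⟩
      obtain ⟨c, hc⟩ := hd
      rcases Nat.lt_trichotomy c 1 with h' | h' | h'
      · rw [show c = 0 by omega] at hc; omega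
      · rw [h', mul_one] at hc
        have e : (p + 1) * (2 * g) = q ^ b * (2 * g) := by rw [hc, mul_comm (p + 1), h, ← hc]; ring
        have e' := Nat.eq_of_mul_eq_mul_right (by omega) e
        rw [← e'] at hqo
        exact absurd hqo (Nat.not_odd_iff_even.mpr ⟨k + 1, by omega⟩)
      · have := Nat.mul_le_mul_left (p - 1) h'
        omega
  refine ⟨hq2, ?_⟩
  subst hq2
  obtain ⟨i, a, ha, hA⟩ := Nat.exists_eq_two_pow_mul_odd (show p - 1 ≠ 0 by omega)
  obtain ⟨j, c, hc, hC⟩ := Nat.exists_eq_two_pow_mul_odd (show p + 1 ≠ 0 by omega)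
  have hac : a * c ∣ g := by
    refine (Nat.Coprime.pow_right (b + 1) ((Nat.prime_two.coprime_iff_not_dvd.mpr
      (Nat.not_even_iff_odd.mpr (ha.mul hc) ∘ even_iff_two_dvd.mpr)).symm)).dvd_of_dvd_mul_left ?_
    refine ⟨2 ^ i * 2 ^ j, ?_⟩
    rw [pow_succ, show 2 ^ b * 2 * g = 2 * (2 ^ b * g) by ring, ← h, hA, hC]
    ring
  have hacle := Nat.le_of_dvd hg0 hac
  have hi : 1 ≤ i := by
    by_contra h0
    rw [show i = 0 by omega, pow_zero, one_mul] at hA
    obtain ⟨r, hr⟩ := ha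
    omega
  have hj : 1 ≤ j := by
    by_contra h0
    rw [show j = 0 by omega, pow_zero, one_mul] at hC
    obtain ⟨r, hr⟩ := hc
    omega
  have h4 : i = 1 ∨ j = 1 := by
    by_contra hne
    push Not at hne
    obtain ⟨i', rfl⟩ : ∃ i', i = i' + 2 := ⟨i - 2, by omega⟩
    obtain ⟨j', rfl⟩ : ∃ j', j = j' + 2 := ⟨j - 2, by omega⟩
    rw [pow_add] at hA hC
    have : 4 ∣ p - 1 := ⟨2 ^ i' * a, by rw [hA]; ring⟩
    have : 4 ∣ p + 1 := ⟨2 ^ j' * c, by rw [hC]; ring⟩
    omega
  rcases h4 with rfl | rfl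
  · have hc1 : c = 1 := by
      by_contra hne
      have hc2 : 2 ≤ c := by obtain ⟨r, hr⟩ := hc; omega
      have := Nat.mul_le_mul_left a hc2
      omega
    rw [hc1, mul_one] at hC
    exact ⟨j, Or.inr (by omega)⟩
  · have ha1 : a = 1 := by
      by_contra hne
      have ha2 : 2 ≤ a := by obtain ⟨r, hr⟩ := ha; omega
      have := Nat.mul_le_mul_right c ha2
      omega
    rw [ha1, mul_one] at hA
    exact ⟨i, Or.inl (by omega)⟩

/-- The odd part of a number congruent to `± 1` modulo a Fermat prime. -/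
theorem odd_part_cases {p M s r : ℕ} [Fact p.Prime] (hM : p = 2 ^ M + 1) (hM1 : 1 ≤ M) (hr : Odd r)
    (hle : 2 * r ≤ p + 1) {σ : ℤ} (hσ : σ = 1 ∨ σ = -1)
    (h : ((2 ^ s * r : ℕ) : ℤ) ≡ σ [ZMOD p]) : r = 1 ∨ 2 * r = p + 1 := by
  have h' : ((2 : ZMod p) ^ s) * (r : ZMod p) = (σ : ZMod p) := by
    rw [← ZMod.intCast_eq_intCast_iff] at h
    push_cast at h
    exact h
  have hneg : (2 : ZMod p) ^ M = -1 := by
    have e : ((2 ^ M + 1 : ℕ) : ZMod p) = 0 := by rw [ZMod.natCast_eq_zero_iff, ← hM]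
    push_cast at e
    linear_combination e
  obtain ⟨u, hu, k, hk⟩ : ∃ u, (1 ≤ u ∧ u ≤ M) ∧ ∃ k, s + u = M * k := by
    refine ⟨M - s % M, ⟨by have := Nat.mod_lt s (show 0 < M by omega); omega, by omega⟩,
      s / M + 1, ?_⟩
    have h1 := Nat.div_add_mod s M
    have h2 := Nat.mod_lt s (show 0 < M by omega)
    rw [mul_add, mul_one]
    omega
  have e : ((-1 : ZMod p) ^ k) * (r : ZMod p) = (σ : ZMod p) * 2 ^ u := by
    rw [← hneg, ← pow_mul, ← hk, pow_add, mul_right_comm, h']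
  have hpm : (r : ZMod p) = ((2 ^ u : ℕ) : ZMod p) ∨ ((r + 2 ^ u : ℕ) : ZMod p) = 0 := by
    push_cast
    rcases neg_one_pow_eq_or (ZMod p) k with hk' | hk' <;> rcases hσ with hs | hs <;>
      rw [hk', hs] at e <;> push_cast at e
    · left; linear_combination e
    · right; linear_combination e
    · right; linear_combination -e
    · left; linear_combination -e
  have hu2 : 2 ∣ 2 ^ u := dvd_pow_self 2 (by omega)
  have hub : 2 ^ u < p := by
    have := Nat.pow_le_pow_right (show 1 ≤ 2 by norm_num) hu.2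
    omega
  obtain ⟨d, hd⟩ := hr
  have hp3 : 3 ≤ p := by
    have := Nat.pow_le_pow_right (show 1 ≤ 2 by norm_num) hM1
    omega
  rcases hpm with hpm | hpm
  · rw [ZMod.natCast_eq_natCast_iff', Nat.mod_eq_of_lt (by omega), Nat.mod_eq_of_lt hub] at hpm
    omega
  · rw [ZMod.natCast_eq_zero_iff] at hpm
    obtain ⟨c, hc⟩ := hpm
    have hc1 : c = 1 := by
      rcases Nat.lt_trichotomy c 1 with h'' | h'' | h''
      · rw [show c = 0 by omega] at hc; omega
      · exact h''
      · have := Nat.mul_le_mul_left p h''; omega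
    rw [hc1, mul_one] at hc
    rcases Nat.lt_trichotomy u M with hlt | rfl | hgt
    · obtain ⟨v, hv⟩ : ∃ v, M = u + 1 + v := ⟨M - u - 1, by omega⟩
      have h2 : 2 * 2 ^ u ≤ 2 ^ M := by
        rw [hv, pow_add, pow_succ]
        calc 2 * 2 ^ u = 2 ^ u * 2 * 1 := by ring
          _ ≤ 2 ^ u * 2 * 2 ^ v := Nat.mul_le_mul_left _ Nat.one_le_two_pow
      omega
    · left; omega
    · omega

/-- The power of two congruent to `-1` below the cube of `p - 1`. -/
theorem exponent_eq {p M b : ℕ} [Fact p.Prime] (hM : p = 2 ^ M + 1) (hM2 : 2 ≤ M)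
    (h : ((2 : ZMod p)) ^ b = -1) (hlt : 2 ^ b < 2 ^ (3 * M)) : b = M := by
  have hneg : (2 : ZMod p) ^ M = -1 := by
    have e : ((2 ^ M + 1 : ℕ) : ZMod p) = 0 := by rw [ZMod.natCast_eq_zero_iff, ← hM]
    push_cast at e
    linear_combination e
  have hb3 : b < 3 * M := (Nat.pow_lt_pow_iff_right (by norm_num)).mp hlt
  have hdm := Nat.div_add_mod b M
  have hr := Nat.mod_lt b (show 0 < M by omega)
  set q := b / M
  set r := b % M
  rw [← hdm, pow_add, pow_mul, hneg] at h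
  have h2r : 2 * 2 ^ r ≤ 2 ^ M := by
    rw [← pow_succ']
    exact Nat.pow_le_pow_right (by norm_num) hr
  have hp4 : 4 ≤ 2 ^ M := by
    calc 4 = 2 ^ 2 := by norm_num
      _ ≤ 2 ^ M := Nat.pow_le_pow_right (by norm_num) hM2
  have hne1 : ∀ n : ℕ, n ≠ 0 → n < p → ((n : ℕ) : ZMod p) ≠ 0 := fun n h0 hn e =>
    absurd (Nat.le_of_dvd (Nat.pos_of_ne_zero h0) ((ZMod.natCast_eq_zero_iff _ _).mp e)) (by omega)
  have h1le : 1 ≤ 2 ^ r := Nat.one_le_two_pow
  rcases Nat.even_or_odd q with hq | hq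
  · rw [hq.neg_one_pow, one_mul] at h
    exact absurd (show ((2 ^ r + 1 : ℕ) : ZMod p) = 0 by push_cast; linear_combination h)
      (hne1 _ (by omega) (by omega))
  · rw [hq.neg_one_pow, neg_one_mul, neg_inj] at h
    have hr0 : r = 0 := by
      by_contra h0
      have h2 : 2 ≤ 2 ^ r := by
        calc 2 = 2 ^ 1 := by norm_num
          _ ≤ 2 ^ r := Nat.pow_le_pow_right (by norm_num) (Nat.pos_of_ne_zero h0)
      exact hne1 (2 ^ r - 1) (by omega) (by omega) (by
        rw [Nat.cast_sub h1le]; push_cast; linear_combination h)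
    have hq3 : q < 3 := by
      by_contra hge
      have := Nat.mul_le_mul_left M (Nat.le_of_not_lt hge)
      omega
    obtain ⟨d, hd⟩ := hq
    have hq1 : q = 1 := by omega
    rw [hq1, hr0] at hdm
    omega

end Cfsg.Agent.Blocks.SmallCofactor
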