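import Cfsg.Agent.Lib.Blocks.SmallCofactor.Structure
import Cfsg.Agent.Lib.Blocks.SmallCofactor.Arith

/-!
# The order of the Sylow two-subgroup

The characters of `2`-power degree lie outside the principal `2`-block, so the combination of that
block with coefficients the values at an element of order `p` has value `1` modulo the exceptional
degree at the identity, and this value is divisible by the order of a Sylow `2`-subgroup.
-/

set_option autoImplicit false
set_option linter.unusedSectionVars false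

namespace Cfsg.Agent.Blocks.SmallCofactor

open scoped Cfsg.Agent.Blocks.D1 Classical ComplexConjugate
open CT Blocks

universe u

variable {p : ℕ} [hp : Fact p.Prime] {G : Type u} [Group G] [Fintype G] [IsSimpleGroup G]

theorem int_dvd_of_loc {M : Ideal AlgInt} [M.IsPrime] (hM : IsPModular 2 M) {N : ℤ} {z : ℂ}
    (hz : z ∈ Loc M) {b : ℕ} (h : (N : ℂ) = (2 : ℂ) ^ b * z) : (2 : ℤ) ^ b ∣ N := by
  induction b generalizing N with
  | zero => simp
  | succ b ih =>
    have hI : MemLocalIdeal M (N : ℂ) := by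
      rw [h, pow_succ, mul_comm ((2 : ℂ) ^ b), mul_assoc, mul_comm]
      refine memLocalIdeal_mul_left ((Loc M).mul_mem ((Loc M).pow_mem ?_ _) hz) ?_
      · exact_mod_cast (natCast_mem (Loc M) 2)
      · exact_mod_cast (memLocalIdeal_natCast hM 2).mpr dvd_rfl
    have hI' : MemLocalIdeal M ((N.natAbs : ℕ) : ℂ) := by
      rcases Int.natAbs_eq N with e | e
      · rw [e, Int.cast_natCast] at hI; exact hI
      · rw [e, Int.cast_neg, Int.cast_natCast] at hI
        have := memLocalIdeal_neg hI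
        rw [neg_neg] at this
        exact this
    obtain ⟨N', hN⟩ : (2 : ℤ) ∣ N :=
      Int.natCast_dvd.mpr ((memLocalIdeal_natCast hM _).mp hI')
    subst hN
    rw [pow_succ, mul_comm]
    refine mul_dvd_mul_left 2 (ih ?_)
    rw [pow_succ, mul_comm _ (2 : ℂ), mul_assoc] at h
    push_cast at h
    exact mul_left_cancel₀ two_ne_zero h

/-- A nontrivial character of two-power degree is outside the principal two-block. -/
theorem not_mem_principal {M : Ideal AlgInt} [M.IsPrime] (hM : IsPModular 2 M)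
    (hnc : ¬ IsMulCommutative G) (h2 : 2 ∣ Nat.card G) {χ : IrrCharacter G} (hne : χ ≠ trivIrr G)
    {s : ℕ} (hd : deg (χ : G → ℂ) = 2 ^ s) : χ ∉ principalBlock M G := by
  haveI : Fact (Nat.Prime 2) := ⟨Nat.prime_two⟩
  obtain ⟨T⟩ : Nonempty (Sylow 2 G) := inferInstance
  haveI : Nontrivial (T : Subgroup G) := Finite.one_lt_card_iff_nontrivial.mp
    (Nat.one_lt_two.trans_le (Nat.le_of_dvd Nat.card_pos (T.dvd_card_of_dvd_card h2)))
  haveI := T.isPGroup'.center_nontrivial
  obtain ⟨⟨v', hv'⟩, hv1⟩ := exists_ne (1 : Subgroup.center (T : Subgroup G))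
  set v := (v' : G)
  have hTC : (T : Subgroup G) ≤ Subgroup.centralizer ({v} : Set G) := fun t ht => by
    rw [Subgroup.mem_centralizer_singleton_iff]
    exact congrArg Subtype.val (Subgroup.mem_center_iff.mp hv' ⟨t, ht⟩)
  have hodd : ¬ 2 ∣ (Subgroup.centralizer ({v} : Set G)).index := fun h =>
    T.not_dvd_index (h.trans (Subgroup.index_dvd_of_le hTC))
  have hv0 : v ≠ 1 := fun h => hv1 (Subtype.ext (Subtype.ext h))
  have hzero : (χ : G → ℂ) v = 0 := by
    obtain ⟨n, ρ, hρ, hχ⟩ := χ.2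
    haveI := hρ
    rw [← hχ] at hd ⊢
    rw [deg_eq_finrank] at hd
    refine (zero_or_norm_of_coprime ρ v (by
      rw [hd]; exact Nat.Coprime.pow_left s (Nat.prime_two.coprime_iff_not_dvd.mpr hodd))).resolve_right
      fun hn => hv0 ?_
    have hs := scalar_of_norm_eq ρ hn
    have hc : ∀ g : G, g * v = v * g := by
      intro g
      refine mul_inv_eq_iff_eq_mul.mp (mul_inv_eq_one.mp (faithful_of_ne hne ?_))
      have hcomm : ρ g * ρ v = ρ v * ρ g := by
        rw [hs, mul_smul_comm, smul_mul_assoc]; rfl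
      have e : ρ (g * v * g⁻¹ * v⁻¹) = ρ 1 := by
        rw [map_mul, map_mul, map_mul, hcomm, mul_assoc (ρ v), ← map_mul ρ g, mul_inv_cancel,
          map_one, mul_one, ← map_mul, mul_inv_cancel, map_one]
      rw [← hχ]
      simp only [Representation.character, e]
    have hz : v ∈ Subgroup.center G := Subgroup.mem_center_iff.mpr hc
    rw [center_eq_bot hnc] at hz
    exact Subgroup.mem_bot.mp hz
  intro hmem
  have h := hmem v
  simp only [centralChar, hzero, mul_zero, zero_div, sub_zero, mul_one, div_one] at h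
  exact hodd ((memLocalIdeal_natCast hM _).mp h)

variable {P : Sylow p G} {e x b : ℕ} (D : Data P e x) (hP : Nat.card P = p)
  (hcard : Nat.card G = p * 2 ^ b * x)

include D hP hcard in
theorem idx_P : (P : Subgroup G).index = 2 ^ b * x := by
  have h := (P : Subgroup G).card_mul_index
  rw [show Nat.card ↥(P : Subgroup G) = p from hP, hcard, mul_assoc] at h
  exact Nat.eq_of_mul_eq_mul_left hp.out.pos h

include D in
theorem cC_eq' (hP : Nat.card P = p) : D1.cC P = (P : Subgroup G) :=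
  le_antisymm (fun g hg => D.cent g fun y hy => (Subgroup.mem_centralizer_iff.mp hg y hy).symm)
    fun _ hg => D1.mem_cC_of_mem hP hg

include D hP hcard in
theorem exists_two_pow : ∃ M, 2 ≤ M ∧ p = 2 ^ M + 1 ∧
    ∀ χ ∈ D.X, χ ≠ trivIrr G → (∃ s, deg (χ : G → ℂ) = 2 ^ s) ∨ x ∣ deg (χ : G → ℂ) := by
  have hp2 := hp.out.two_le
  have he2 := D.two_le
  have hadd := D.add_eq
  have h2x := D.two_x
  have hpodd : Odd p := hp.out.odd_of_ne_two (by omega)
  have hnp : ∀ χ ∈ D.X, ¬ p ∣ deg (χ : G → ℂ) := by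
    intro χ hχ h
    have h1 := (Int.modEq_zero_iff_dvd.mpr (Int.natCast_dvd_natCast.mpr h)).symm.trans (D.deg_X χ hχ)
    have h2 : (p : ℤ) ∣ D.εX χ := Int.modEq_zero_iff_dvd.mp h1.symm
    exact (Nat.prime_iff_prime_int.mp hp.out).not_isUnit (isUnit_of_dvd_unit h2 (by
      rcases D.sign χ hχ with h | h <;> simp [h]))
  have hdvd : ∀ χ ∈ D.X, deg (χ : G → ℂ) ∣ 2 ^ b * x := fun χ hχ =>
    ((hp.out.coprime_iff_not_dvd.mpr (hnp χ hχ)).symm).dvd_of_dvd_mul_left
      (by rw [← mul_assoc, ← hcard]; exact charDegree_dvd_card χ)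
  have hodd_dvd : ∀ χ ∈ D.X, ∀ s r : ℕ, Odd r → deg (χ : G → ℂ) = 2 ^ s * r → r ∣ x := by
    intro χ hχ s r hr hd
    refine (Nat.Coprime.pow_right b ((Nat.prime_two.coprime_iff_not_dvd.mpr
      (Nat.not_even_iff_odd.mpr hr ∘ even_iff_two_dvd.mpr)).symm)).dvd_of_dvd_mul_left ?_
    exact (dvd_mul_left r _).trans (hd ▸ hdvd χ hχ)
  have hsum := D.sum_X
  rw [← Finset.add_sum_erase _ _ D.triv_mem, D.εX_triv] at hsum
  simp only [show deg ((trivIrr G : IrrCharacter G) : G → ℂ) = 1 by simp [deg, trivIrr],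
    Nat.cast_one, mul_one] at hsum
  obtain ⟨c, hc⟩ := D.e_two
  by_cases he : e = 2
  · have hcard' : (D.X.erase (trivIrr G)).card = 1 := by
      rw [Finset.card_erase_of_mem D.triv_mem, D.card_X, he]
    obtain ⟨χ, hχ⟩ := Finset.card_eq_one.mp hcard'
    rw [hχ, Finset.sum_singleton] at hsum
    have hχm : χ ∈ D.X.erase (trivIrr G) := hχ ▸ Finset.mem_singleton_self χ
    have hχX := Finset.mem_of_mem_erase hχm
    have hd : deg (χ : G → ℂ) = p - 1 := by
      rcases D.sign χ hχX with h | h <;> rw [h] at hsum <;> omega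
    have hcop : Nat.Coprime (p - 1) x := by
      rw [show p - 1 = 1 + x by omega, Nat.coprime_add_self_left]
      exact Nat.coprime_one_left x
    have h := hdvd χ hχX
    rw [hd] at h
    obtain ⟨M, -, hM⟩ := (Nat.dvd_prime_pow Nat.prime_two).mp (hcop.dvd_of_dvd_mul_right h)
    refine ⟨M, ?_, by omega, fun χ' hχ' hne => Or.inl ⟨M, ?_⟩⟩
    · by_contra hlt
      have := Nat.pow_le_pow_right (show 1 ≤ 2 by norm_num) (show M ≤ 1 by omega)
      omega
    · have : χ' ∈ D.X.erase (trivIrr G) := Finset.mem_erase.mpr ⟨hne, hχ'⟩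
      rw [hχ, Finset.mem_singleton] at this
      rw [this, hd, hM]
  have hc2 : 2 ≤ c := by
    by_contra hlt
    have := Nat.pow_le_pow_right (show 1 ≤ 2 by norm_num) (show c ≤ 1 by omega)
    omega
  have h4e : 4 ∣ e := hc ▸ Nat.pow_dvd_pow 2 hc2
  have h4p : 4 ∣ p - 1 := h4e.trans D.e_dvd
  obtain ⟨χ, hχX, hne, h4⟩ : ∃ χ ∈ D.X, χ ≠ trivIrr G ∧ ¬ 4 ∣ deg (χ : G → ℂ) := by
    by_contra hno
    push Not at hno
    have h4 : (4 : ℤ) ∣ -(x : ℤ) - 1 := by
      rw [← hsum, add_sub_cancel_left]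
      exact Finset.dvd_sum fun χ hχ => dvd_mul_of_dvd_right (by
        exact_mod_cast hno χ (Finset.mem_of_mem_erase hχ) (Finset.ne_of_mem_erase hχ)) _
    omega
  set d := deg (χ : G → ℂ) with hd
  obtain ⟨r, hr⟩ : 2 ∣ d := D.even_X χ hχX hne
  have hrodd : Odd r := Nat.not_even_iff_odd.mp fun h => h4 (by
    obtain ⟨t, ht⟩ := h; exact ⟨t, by omega⟩)
  have hrx : r ∣ x := hodd_dvd χ hχX 1 r hrodd (by rw [pow_one]; exact hr)
  have hrle := Nat.le_of_dvd (by omega) hrx
  obtain ⟨k, hk⟩ := Int.modEq_iff_dvd.mp (D.deg_X χ hχX).symm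
  rw [← hd] at hk
  have hdp : d = p + 1 := by
    obtain ⟨p', hp'⟩ := hpodd
    have hd1 : 1 ≤ d := deg_pos χ.2
    have hk1 : k = 1 := by
      rcases Int.lt_trichotomy k 1 with h | h | h
      · exfalso
        have hk0 : 0 ≤ k := by
          by_contra h0
          rcases D.sign χ hχX with h' | h' <;> rw [h'] at hk <;> nlinarith
        rw [show k = 0 by omega, mul_zero] at hk
        rcases D.sign χ hχX with h' | h' <;> rw [h'] at hk <;> omega
      · exact h
      · exfalso
        have : (d : ℤ) + 1 < 2 * p := by omega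
        rcases D.sign χ hχX with h' | h' <;> rw [h'] at hk <;> nlinarith
    rw [hk1, mul_one] at hk
    rcases D.sign χ hχX with h' | h' <;> rw [h'] at hk
    · omega
    · exfalso
      exact h4 (by rw [show d = p - 1 by omega]; exact h4p)
  have hxr : x = r := by
    obtain ⟨t, ht⟩ := hrx
    rcases Nat.lt_trichotomy t 1 with h | h | h
    · rw [show t = 0 by omega, mul_zero] at ht; omega
    · rw [h, mul_one] at ht; exact ht
    · have := Nat.mul_le_mul_left r h
      omega
  have hpM : p = 2 ^ (c + 1) + 1 := by rw [pow_succ, ← hc]; omega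
  refine ⟨c + 1, by omega, hpM, fun χ' hχ' hne' => ?_⟩
  obtain ⟨s, r', hr', hd'⟩ := Nat.exists_eq_two_pow_mul_odd (deg_pos χ'.2).ne'
  have hr'x : r' ∣ x := hodd_dvd χ' hχ' s r' hr' hd'
  have hle' := Nat.le_of_dvd (by omega) hr'x
  rcases odd_part_cases (σ := D.εX χ') hpM (by omega) hr' (by omega) (D.sign χ' hχ')
    (hd' ▸ D.deg_X χ' hχ') with h | h
  · exact Or.inl ⟨s, by rw [hd', h, mul_one]⟩
  · exact Or.inr (by rw [hd', show r' = x by omega]; exact dvd_mul_left _ _)

include D hP hcard in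
theorem two_pow_cast : (2 : ZMod p) ^ b = -1 := by
  have hCN : D1.cC P ≤ D1.cN P := Subgroup.centralizer_le_normalizer _
  have hidx := idx_P D hP hcard
  have he := D.relIndex
  have hn : Nat.card (Sylow p G) * e = 2 ^ b * x := by
    rw [← hidx, ← cC_eq' D hP, ← he, P.card_eq_index_normalizer, mul_comm]
    exact Subgroup.relIndex_mul_index hCN
  have hn1 : ((Nat.card (Sylow p G) : ℕ) : ZMod p) = 1 := by
    rw [← Nat.cast_one, ZMod.natCast_eq_natCast_iff]
    exact card_sylow_modEq_one p G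
  have hx : (x : ZMod p) = -(e : ZMod p) := by
    rw [eq_neg_iff_add_eq_zero, ← Nat.cast_add, D.add_eq, ZMod.natCast_self]
  have he0 : (e : ZMod p) ≠ 0 := by
    rw [Ne, ZMod.natCast_eq_zero_iff]
    intro h
    have := Nat.le_of_dvd (by have := D.two_le; omega) h
    have := D.add_eq
    have := D.two_x
    omega
  have e2 := congrArg (Nat.cast : ℕ → ZMod p) hn
  push_cast at e2
  rw [hn1, hx, one_mul] at e2
  refine mul_right_cancel₀ he0 ?_
  linear_combination e2


include D hP hcard in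
/-- The Sylow two-subgroup has order `p - 1`. -/
theorem two_pow_eq (hnc : ¬ IsMulCommutative G) : 2 ^ b = p - 1 := by
  haveI : Fact (Nat.Prime 2) := ⟨Nat.prime_two⟩
  obtain ⟨M, hM2, hpM, hdeg⟩ := exists_two_pow D hP hcard
  have hcast := two_pow_cast D hP hcard
  suffices hlt : 2 ^ b < 2 ^ (3 * M) by rw [exponent_eq hpM hM2 hcast hlt, hpM, Nat.add_sub_cancel]
  by_contra hge
  push Not at hge
  have hp4 : 4 ≤ 2 ^ M := by
    calc 4 = 2 ^ 2 := by norm_num
      _ ≤ 2 ^ M := Nat.pow_le_pow_right (by norm_num) hM2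
  have hp5 : 5 ≤ p := by omega
  have he2 := D.two_le
  have hadd := D.add_eq
  have h2x := D.two_x
  have hb1 : 1 ≤ b := by
    by_contra h
    have h8 := Nat.pow_le_pow_right (show 1 ≤ 2 by norm_num) (show 1 ≤ 3 * M by omega)
    rw [show b = 0 by omega, pow_zero] at hge
    omega
  have h2G : 2 ∣ Nat.card G := by
    rw [hcard]
    exact dvd_mul_of_dvd_left (dvd_mul_of_dvd_right (dvd_pow_self 2 (by omega)) _) _
  have hxodd := D.odd
  have hfac : (Nat.card G).factorization 2 = b := by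
    have h2p : ¬ 2 ∣ p := fun h => by
      have := (Nat.prime_dvd_prime_iff_eq Nat.prime_two hp.out).mp h; omega
    have h2xd : ¬ 2 ∣ x := fun h => Nat.not_even_iff_odd.mpr hxodd (even_iff_two_dvd.mpr h)
    rw [hcard, Nat.factorization_mul (by positivity) (by omega),
      Nat.factorization_mul hp.out.ne_zero (by positivity), Finsupp.add_apply, Finsupp.add_apply,
      Nat.factorization_eq_zero_of_not_dvd h2p, Nat.factorization_eq_zero_of_not_dvd h2xd,
      Nat.prime_two.factorization_pow, Finsupp.single_eq_same, zero_add, add_zero]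
  obtain ⟨M₂, hM₂⟩ := exists_isPModular (p := 2) Nat.prime_two
  haveI := hM₂.2.1.isPrime
  set B₂ := principalBlock M₂ G with hB₂
  obtain ⟨T⟩ := D1.exists_setup P hP
  set u := T.x
  have huP : u ∈ (P : Subgroup G) := T.x_mem_P
  have hu1 : u ≠ 1 := fun h => hp.out.one_lt.ne (by rw [← T.hx]; show 1 = orderOf u; rw [h, orderOf_one])
  have hu2 : ¬ 2 ∣ orderOf u := fun h => by
    rw [T.hx, Nat.prime_dvd_prime_iff_eq Nat.prime_two hp.out] at h
    omega
  set c : IrrCharacter G → ℂ := fun χ => if χ ∈ B₂ then conj ((χ : G → ℂ) u) else 0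
  have hcint : ∀ χ, c χ ∈ Loc M₂ := by
    intro χ
    simp only [c]
    split_ifs
    · rw [← char_inv_eq_conj (isCharacter_of_isIrr χ.2)]
      exact integral_mem_loc (isIntegral_isCharacter (isCharacter_of_isIrr χ.2) _)
    · exact (Loc M₂).zero_mem
  obtain ⟨nn, hval, hz⟩ := exists_eq_pow_mul (M := M₂) Nat.prime_two c hcint (fun g hg => by
    have h := weak_orthogonality' hM₂
      (blockCoeff_mem_loc (M := M₂) (isPBlock_principalBlock (G := G))) hg (h := u) hu2
    rw [finsum_mem_irr] at h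
    refine Eq.trans (Finset.sum_congr rfl fun χ _ => ?_) h
    simp only [c, hB₂]
    split_ifs <;> ring)
  rw [hfac] at hval
  -- the exceptional characters lie in one two-block
  have hsame : ∀ ψ ∈ D.Y, ∀ ψ' ∈ D.Y, SameBlock M₂ (ψ : G → ℂ) (ψ' : G → ℂ) := by
    intro ψ hψ ψ' hψ' g
    by_cases hg : p ∣ orderOf g
    · -- conjugate into `P`
      set z := g ^ (orderOf g / p)
      have hzo : orderOf z = p := orderOf_pow_orderOf_div (orderOf_pos g).ne' hg
      obtain ⟨Q, hQ⟩ := (IsPGroup.iff_card.mpr ⟨1, by rw [Nat.card_zpowers, hzo, pow_one]⟩ :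
        IsPGroup p (Subgroup.zpowers z)).exists_le_sylow
      obtain ⟨a, ha⟩ := MulAction.exists_smul_eq G Q P
      have hzP : a * z * a⁻¹ ∈ (P : Subgroup G) := by
        rw [← ha, Sylow.coe_subgroup_smul]
        exact Subgroup.smul_mem_pointwise_smul z (MulAut.conj a) _ (hQ (Subgroup.mem_zpowers z))
      have hz1 : a * z * a⁻¹ ≠ 1 := fun h => by
        rw [mul_inv_eq_one, mul_eq_left] at h
        rw [h, orderOf_one] at hzo
        exact hp.out.one_lt.ne hzo
      have hgz : Commute g z := (Commute.refl g).pow_right _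
      set g' := a * g * a⁻¹ with hg'
      have hg'C : g' ∈ (P : Subgroup G) := by
        refine D.cent g' fun y hy => ?_
        obtain ⟨i, hi⟩ := Subgroup.mem_zpowers_iff.mp (mem_zpowers_of_prime_card hP
          (g := (⟨_, hzP⟩ : (P : Subgroup G))) (fun h => hz1 (congrArg Subtype.val h))
          (g' := (⟨y, hy⟩ : (P : Subgroup G))))
        have hi' : (a * z * a⁻¹) ^ i = y := by simpa using congrArg Subtype.val hi
        rw [← hi']
        exact ((Commute.conj_iff a).mpr hgz).zpow_right i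
      have hg'1 : g' ≠ 1 := fun h => by
        rw [hg', mul_inv_eq_one, mul_eq_left] at h
        rw [h, orderOf_one] at hg
        exact hp.out.not_dvd_one hg
      have hidx : (Subgroup.centralizer ({g} : Set G)).index = 2 ^ b * x := by
        have h1 := Subgroup.index_map_equiv (Subgroup.centralizer ({g} : Set G)) (MulAut.conj a)
        have h2 : (Subgroup.centralizer ({g} : Set G)).map (MulAut.conj a : G ≃* G) = (P : Subgroup G) := by
          ext y
          rw [Subgroup.mem_map]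
          constructor
          · rintro ⟨w, hw, rfl⟩
            have hwg : Commute w g := Subgroup.mem_centralizer_singleton_iff.mp hw
            have hyg : Commute (a * w * a⁻¹) g' := (Commute.conj_iff a).mpr hwg
            refine D.cent _ fun v hv => ?_
            obtain ⟨i, hi⟩ := Subgroup.mem_zpowers_iff.mp (mem_zpowers_of_prime_card hP
              (g := (⟨_, hg'C⟩ : (P : Subgroup G))) (fun h => hg'1 (congrArg Subtype.val h))
              (g' := (⟨v, hv⟩ : (P : Subgroup G))))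
            have hi' : g' ^ i = v := by simpa using congrArg Subtype.val hi
            rw [← hi']
            exact (show Commute (a * w * a⁻¹) (g' ^ i) from hyg.zpow_right i)
          · intro hy
            refine ⟨a⁻¹ * y * a, ?_, by simp [mul_assoc]⟩
            have hyg : Commute y g' :=
              (Subgroup.mem_centralizer_iff.mp (D1.mem_cC_of_mem hP hy) g' hg'C).symm
            rw [Subgroup.mem_centralizer_singleton_iff]
            have h := (Commute.conj_iff a⁻¹).mpr hyg
            rw [inv_inv, show a⁻¹ * g' * a = g by rw [hg']; group] at h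
            exact h.eq
        rw [← h1, h2]
        exact idx_P D hP hcard
      have hx0 : (x : ℂ) ≠ 0 := Nat.cast_ne_zero.mpr (by omega)
      have e : centralChar (ψ : G → ℂ) g - centralChar (ψ' : G → ℂ) g =
          ((ψ : G → ℂ) g - (ψ' : G → ℂ) g) * ((2 ^ b : ℕ) : ℂ) := by
        simp only [centralChar, hidx, deg_eq (isCharacter_of_isIrr ψ.2),
          deg_eq (isCharacter_of_isIrr ψ'.2), D.deg_Y ψ hψ, D.deg_Y ψ' hψ', Nat.cast_mul]
        field_simp
      rw [e]
      exact memLocalIdeal_mul_left ((Loc M₂).sub_mem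
        (integral_mem_loc (isIntegral_isCharacter (isCharacter_of_isIrr ψ.2) _))
        (integral_mem_loc (isIntegral_isCharacter (isCharacter_of_isIrr ψ'.2) _)))
        ((memLocalIdeal_natCast hM₂ _).mpr (dvd_pow_self 2 (by omega)))
    · simp only [centralChar, D.agree ψ hψ ψ' hψ' g hg, deg_eq (isCharacter_of_isIrr ψ.2),
        deg_eq (isCharacter_of_isIrr ψ'.2), D.deg_Y ψ hψ, D.deg_Y ψ' hψ', sub_self]
      exact memLocalIdeal_zero
  obtain ⟨ψ₀, hψ₀⟩ := D.Y_ne
  have hYB : ∀ ψ ∈ D.Y, (ψ ∈ B₂ ↔ ψ₀ ∈ B₂) := fun ψ hψ =>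
    ⟨fun h => sameBlock_trans h (hsame ψ hψ ψ₀ hψ₀), fun h => sameBlock_trans h (hsame ψ₀ hψ₀ ψ hψ)⟩
  -- the value at the identity
  set X' := D.X.erase (trivIrr G)
  set δ : ℤ := if ψ₀ ∈ B₂ then 1 else 0 with hδ
  set N : ℤ := 1 + ∑ χ ∈ X', (if χ ∈ B₂ then D.εX χ * (deg (χ : G → ℂ) : ℤ) else 0) + δ * x with hN
  have hN' : ∑ χ, c χ * (χ : G → ℂ) 1 = (N : ℂ) := by
    rw [← Finset.sum_subset (Finset.subset_univ (D.X ∪ D.Y)) fun χ _ hχ => by
        simp [c, D.outside χ hχ u huP hu1], Finset.sum_union D.disj,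
      ← Finset.add_sum_erase _ _ D.triv_mem]
    rw [hN]
    push_cast
    congr 1
    · congr 1
      · have ht : trivIrr G ∈ B₂ := trivIrr_mem_principalBlock
        simp only [c, if_pos ht]; simp [trivIrr]
      · refine Finset.sum_congr rfl fun χ hχ => ?_
        simp only [c, D.val_X χ (Finset.mem_of_mem_erase hχ) u huP hu1,
          deg_eq (isCharacter_of_isIrr χ.2)]
        split_ifs <;> simp
    · have hs := congrArg conj (D.sum_Y u huP hu1)
      rw [map_sum, map_one] at hs
      rw [Finset.sum_congr rfl (g := fun ψ : IrrCharacter G => (δ : ℂ) * x * conj ((ψ : G → ℂ) u))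
        fun ψ hψ => ?_, ← Finset.mul_sum, hs, mul_one]
      simp only [c, hδ, deg_eq (isCharacter_of_isIrr ψ.2), D.deg_Y ψ hψ, hYB ψ hψ]
      split_ifs <;> push_cast <;> ring
  have hdiv : (2 : ℤ) ^ b ∣ N := int_dvd_of_loc hM₂ hz (by rw [← hN', hval]; norm_num)
  have hN0 : N ≠ 0 := by
    intro h
    have h1 : (x : ℤ) ∣ N - 1 := by
      rw [hN, add_assoc, add_sub_cancel_left]
      refine dvd_add (Finset.dvd_sum fun χ hχ => ?_) (dvd_mul_left _ _)
      split_ifs with hB
      · rcases hdeg χ (Finset.mem_of_mem_erase hχ) (Finset.ne_of_mem_erase hχ) with ⟨s, hs⟩ | hs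
        · exact absurd hB (not_mem_principal hM₂ hnc h2G (Finset.ne_of_mem_erase hχ) hs)
        · exact dvd_mul_of_dvd_right (Int.natCast_dvd_natCast.mpr hs) _
      · exact dvd_zero _
    rw [h, zero_sub, Int.dvd_neg] at h1
    have := Int.le_of_dvd one_pos h1
    omega
  have hle : N.natAbs ≤ (∑ χ ∈ D.X, deg (χ : G → ℂ)) + x := by
    rw [← Finset.add_sum_erase _ _ D.triv_mem,
      show deg ((trivIrr G : IrrCharacter G) : G → ℂ) = 1 by simp [deg, trivIrr], hN]
    refine (Int.natAbs_add_le _ _).trans (add_le_add ((Int.natAbs_add_le _ _).trans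
      (add_le_add le_rfl ((Int.natAbs_sum_le _ _).trans (Finset.sum_le_sum fun χ hχ => ?_)))) ?_)
    · split_ifs
      · rcases D.sign χ (Finset.mem_of_mem_erase hχ) with h | h <;> simp [h]
      · simp
    · rw [hδ]; split_ifs <;> simp
  have hsq : (∑ χ ∈ D.X, deg (χ : G → ℂ) + x) ^ 2 ≤ (e + 1) * Nat.card G := by
    have hψX : ψ₀ ∉ D.X := fun h => Finset.disjoint_left.mp D.disj h hψ₀
    have h := sq_sum_le_card_mul_sum_sq (s := insert ψ₀ D.X)
      (f := fun χ : IrrCharacter G => deg (χ : G → ℂ))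
    rw [Finset.sum_insert hψX, D.deg_Y ψ₀ hψ₀, Finset.card_insert_of_notMem hψX, D.card_X] at h
    rw [add_comm]
    refine h.trans (Nat.mul_le_mul_left _ ?_)
    have hall : ∑ χ : IrrCharacter G, deg (χ : G → ℂ) ^ 2 = Nat.card G := by
      apply Nat.cast_injective (R := ℂ)
      push_cast
      rw [← sum_degree_sq]
      exact Finset.sum_congr rfl fun χ _ => by rw [deg_eq (isCharacter_of_isIrr χ.2)]
    rw [← hall]
    exact Finset.sum_le_sum_of_subset (Finset.subset_univ _)
  have hbig : 2 ^ b ≤ N.natAbs := by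
    refine Nat.le_of_dvd (Int.natAbs_pos.mpr hN0) ?_
    have := Int.natAbs_dvd_natAbs.mpr hdiv
    rwa [Int.natAbs_pow] at this
  have h1 := Nat.pow_le_pow_left (hbig.trans hle) 2
  have h2 := h1.trans hsq
  rw [hcard, pow_two] at h2
  have h3 : 2 ^ b ≤ (e + 1) * (p * x) := by
    refine Nat.le_of_mul_le_mul_right ?_ (show 0 < 2 ^ b by positivity)
    calc 2 ^ b * 2 ^ b ≤ (e + 1) * (p * 2 ^ b * x) := h2
      _ = (e + 1) * (p * x) * 2 ^ b := by ring
  have h4 := hge.trans h3
  rw [pow_mul'] at h4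
  have hR : (((2 ^ M : ℕ) : ℤ)) ^ 3 ≤ ((e : ℤ) + 1) * ((p : ℤ) * x) := by exact_mod_cast h4
  have hMz : ((2 ^ M : ℕ) : ℤ) = (p : ℤ) - 1 := by omega
  rw [hMz] at hR
  have hez : (x : ℤ) + e = p := by exact_mod_cast hadd
  have h5z : (5 : ℤ) ≤ p := by exact_mod_cast hp5
  have he2z : (2 : ℤ) ≤ e := by exact_mod_cast he2
  have h2xz : (p : ℤ) + 1 ≤ 2 * x := by exact_mod_cast h2x
  have hq1 : 4 * (((e : ℤ) + 1) * x) ≤ ((p : ℤ) + 1) ^ 2 := by
    have := sq_nonneg ((e : ℤ) + 1 - x)
    have e' : ((p : ℤ) + 1) = (e : ℤ) + 1 + x := by linarith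
    rw [e']; nlinarith
  have hq2 : 4 * ((p : ℤ) - 1) ^ 3 ≤ (p : ℤ) * ((p : ℤ) + 1) ^ 2 := by nlinarith
  nlinarith [mul_nonneg (sub_nonneg.mpr h5z) (sub_nonneg.mpr h5z)]

end Cfsg.Agent.Blocks.SmallCofactor
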